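import Mathlib

/-!
# Numerical part of task E7 of project KGL
-/

set_option autoImplicit false

namespace Cfsg.Agent.H969.KGL

theorem two_pow_ge (e : ℕ) : e + 1 ≤ 2 ^ e := Nat.lt_two_pow_self

theorem two_mul_le (e : ℕ) : 2 * e ≤ 2 ^ e := by
  rcases e with _ | e
  · simp
  · have := two_pow_ge e
    rw [pow_succ]
    omega

theorem two_mul_le_pow {p : ℕ} (hp : 2 ≤ p) (e : ℕ) : 2 * e ≤ p ^ e :=
  (two_mul_le e).trans (Nat.pow_le_pow_left hp e)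

theorem pow_sub_one_le {p : ℕ} (hp : 1 ≤ p) (e : ℕ) : p ^ (e + 1) - 1 ≤ (p - 1) * ((e + 1) * p ^ e) := by
  have h1 : ∑ i ∈ Finset.range (e + 1), p ^ i ≤ (e + 1) * p ^ e := by
    calc ∑ i ∈ Finset.range (e + 1), p ^ i ≤ ∑ i ∈ Finset.range (e + 1), p ^ e :=
          Finset.sum_le_sum fun i hi => Nat.pow_le_pow_right hp (Finset.mem_range_succ_iff.1 hi)
      _ = (e + 1) * p ^ e := by rw [Finset.sum_const, Finset.card_range, smul_eq_mul]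
  have h2 : (p - 1) * ∑ i ∈ Finset.range (e + 1), p ^ i = p ^ (e + 1) - 1 := by
    obtain ⟨k, rfl⟩ := Nat.exists_eq_add_of_le hp
    have h3 := geom_sum_mul_add (R := ℕ) k (e + 1)
    rw [add_comm k 1] at h3
    rw [Nat.add_sub_cancel_left]
    rw [mul_comm]
    omega
  rw [← h2]
  exact Nat.mul_le_mul_left _ h1

/-- From `e = 1` to all `e`. -/
theorem gen {p e d B : ℕ} (hp : 2 ≤ p) (he : 1 ≤ e) (hd : 3 ≤ d) (h : (p - 1) * B ≤ p ^ d) :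
    e * ((p ^ e - 1) * B) ≤ (p ^ e) ^ d := by
  obtain ⟨f, rfl⟩ := Nat.exists_eq_add_of_le he
  rw [add_comm 1 f]
  have h1 := pow_sub_one_le (by omega : 1 ≤ p) f
  have h2 : (f + 1) * (f + 1) ≤ p ^ f * p ^ f :=
    Nat.mul_le_mul ((two_pow_ge f).trans (Nat.pow_le_pow_left hp f))
      ((two_pow_ge f).trans (Nat.pow_le_pow_left hp f))
  calc (f + 1) * ((p ^ (f + 1) - 1) * B) ≤ (f + 1) * (((p - 1) * ((f + 1) * p ^ f)) * B) :=
        Nat.mul_le_mul_left _ (Nat.mul_le_mul_right _ h1)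
    _ = ((f + 1) * (f + 1)) * p ^ f * ((p - 1) * B) := by ring
    _ ≤ (p ^ f * p ^ f) * p ^ f * p ^ d :=
        Nat.mul_le_mul (Nat.mul_le_mul_right _ h2) h
    _ = p ^ (3 * f + d) := by rw [← pow_add, ← pow_add, ← pow_add]; congr 1; ring
    _ ≤ p ^ ((f + 1) * d) := Nat.pow_le_pow_right (by omega) (by nlinarith)
    _ = (p ^ (f + 1)) ^ d := by rw [← pow_mul]

/-- The numerical condition. -/
def NumC (p e r n κ : ℕ) : Prop :=
  2 * e * ((p ^ e - 1) * (r ^ (2 * n) + r - 1) * κ) ≤ r * (p ^ e) ^ (r ^ n)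

theorem NumC.two {p e n κ : ℕ} (hp : 2 ≤ p) (he : 1 ≤ e) (hn : 2 ≤ n)
    (h : (p - 1) * ((2 ^ (2 * n) + 1) * κ) ≤ p ^ (2 ^ n)) : NumC p e 2 n κ := by
  have hd : 3 ≤ 2 ^ n := le_trans (by norm_num) (Nat.pow_le_pow_right (by norm_num) hn)
  have := gen hp he hd h
  unfold NumC
  have e0 : 0 < 2 ^ (2 * n) := by positivity
  have e1 : 2 ^ (2 * n) + 2 - 1 = 2 ^ (2 * n) + 1 := by omega
  rw [e1]
  calc 2 * e * ((p ^ e - 1) * (2 ^ (2 * n) + 1) * κ) = 2 * (e * ((p ^ e - 1) * ((2 ^ (2 * n) + 1) * κ))) := by ring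
    _ ≤ _ := Nat.mul_le_mul_left _ this

/-- `(p - 1) B ≤ p ^ (d + 1)` if `B ≤ P ^ d` for some `P ≤ p`. -/
theorem step {p P B d : ℕ} (hP : P ≤ p) (h : B ≤ P ^ d) : (p - 1) * B ≤ p ^ (d + 1) :=
  calc (p - 1) * B ≤ p * p ^ d := Nat.mul_le_mul (Nat.sub_le _ _) (h.trans (Nat.pow_le_pow_left hP d))
    _ = _ := by ring

theorem NumC.two' {p P e n κ : ℕ} (hP : 2 ≤ P) (hp : P ≤ p) (he : 1 ≤ e) (hn : 2 ≤ n)
    (h : (2 ^ (2 * n) + 1) * κ ≤ P ^ (2 ^ n - 1)) : NumC p e 2 n κ := by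
  have hd : 1 ≤ 2 ^ n := Nat.one_le_two_pow
  refine NumC.two (by omega) he hn ?_
  have := step hp h
  rwa [Nat.sub_add_cancel hd] at this

/-- `n ≥ 6`, `r = 2`. -/
theorem two_big {n : ℕ} (hn : 6 ≤ n) : (2 ^ (2 * n) + 1) * 2 ^ (2 * n ^ 2 + n) ≤ 3 ^ (2 ^ n - 1) := by
  have h1 : 2 * n ^ 2 + 3 * n + 1 ≤ 3 * 2 ^ (n - 1) - 3 := by
    have : ∀ k : ℕ, 2 * (k + 6) ^ 2 + 3 * (k + 6) + 1 + 3 ≤ 3 * 2 ^ (k + 5) := by
      intro k
      induction k with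
      | zero => norm_num
      | succ k ih =>
        have : 2 ^ (k + 1 + 5) = 2 * 2 ^ (k + 5) := by ring
        rw [this]
        nlinarith
    obtain ⟨k, rfl⟩ := Nat.exists_eq_add_of_le hn
    have h2 := this k
    rw [show 6 + k - 1 = k + 5 by omega, show 6 + k = k + 6 by omega]
    omega
  obtain ⟨m, hm⟩ : ∃ m, 2 ^ (n - 1) = m + 1 := ⟨2 ^ (n - 1) - 1, by have : 1 ≤ 2 ^ (n - 1) := Nat.one_le_two_pow; omega⟩
  have h2 : 2 ^ n = 2 * (m + 1) := by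
    rw [← hm, ← pow_succ']
    congr 1
    omega
  calc (2 ^ (2 * n) + 1) * 2 ^ (2 * n ^ 2 + n) ≤ 2 ^ (2 * n + 1) * 2 ^ (2 * n ^ 2 + n) := by
        apply Nat.mul_le_mul_right
        rw [pow_succ]
        have : 1 ≤ 2 ^ (2 * n) := Nat.one_le_two_pow
        omega
    _ = 2 ^ (2 * n ^ 2 + 3 * n + 1) := by rw [← pow_add]; congr 1; ring
    _ ≤ 2 ^ (3 * m) := Nat.pow_le_pow_right (by norm_num) (by rw [hm] at h1; omega)
    _ = (2 ^ 3) ^ m := by rw [pow_mul]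
    _ ≤ (3 ^ 2) ^ m := Nat.pow_le_pow_left (by norm_num) m
    _ = 3 ^ (2 * m) := by rw [← pow_mul]
    _ ≤ 3 ^ (2 ^ n - 1) := Nat.pow_le_pow_right (by norm_num) (by omega)

/-- The general odd condition: `2 e (q - 1) ≤ q²`. -/
theorem NumC.odd {p e r n κ : ℕ} (hp : 2 ≤ p) (hr : 3 ≤ r) (hn : 1 ≤ n)
    (h : (r ^ (2 * n) + r - 1) * κ ≤ r * (p ^ e) ^ (r ^ n - 2)) : NumC p e r n κ := by
  have hd : 2 ≤ r ^ n := by
    calc 2 ≤ r ^ 1 := by rw [pow_one]; omega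
      _ ≤ r ^ n := Nat.pow_le_pow_right (by omega) hn
  have h1 := two_mul_le_pow hp e
  unfold NumC
  calc 2 * e * ((p ^ e - 1) * (r ^ (2 * n) + r - 1) * κ) = (2 * e) * (p ^ e - 1) * ((r ^ (2 * n) + r - 1) * κ) := by ring
    _ ≤ (p ^ e) * (p ^ e) * (r * (p ^ e) ^ (r ^ n - 2)) :=
        Nat.mul_le_mul (Nat.mul_le_mul h1 (Nat.sub_le _ _)) h
    _ = r * (p ^ e) ^ (r ^ n - 2 + 2) := by ring
    _ = _ := by rw [Nat.sub_add_cancel hd]

/-- `r = 3`, `n ≥ 3`, trivial bound. -/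
theorem three_big {q n : ℕ} (hn : 3 ≤ n) (hq : 4 ≤ q) :
    (3 ^ (2 * n) + 3 - 1) * 3 ^ (2 * n ^ 2 + n) ≤ 3 * q ^ (3 ^ n - 2) := by
  refine le_trans ?_ (Nat.mul_le_mul_left 3 (Nat.pow_le_pow_left hq _))
  rcases Nat.eq_or_lt_of_le hn with h | h
  · subst h
    norm_num
  · have h1 : 2 * n ^ 2 + 3 * n + 2 ≤ 3 ^ n := by
      have : ∀ k : ℕ, 2 * (k + 4) ^ 2 + 3 * (k + 4) + 2 ≤ 3 ^ (k + 4) := by
        intro k
        induction k with
        | zero => norm_num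
        | succ k ih =>
          have : 3 ^ (k + 1 + 4) = 3 * 3 ^ (k + 4) := by ring
          rw [this]
          nlinarith
      obtain ⟨k, rfl⟩ := Nat.exists_eq_add_of_le (show 4 ≤ n from h)
      rw [show 4 + k = k + 4 by omega]
      exact this k
    calc (3 ^ (2 * n) + 3 - 1) * 3 ^ (2 * n ^ 2 + n) ≤ 3 ^ (2 * n + 1) * 3 ^ (2 * n ^ 2 + n) := by
          apply Nat.mul_le_mul_right
          rw [pow_succ]
          have : 1 ≤ 3 ^ (2 * n) := Nat.one_le_pow _ _ (by norm_num)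
          omega
      _ = 3 * 3 ^ (2 * n ^ 2 + 3 * n) := by rw [← pow_add, ← pow_succ']; congr 1; ring
      _ ≤ 3 * 4 ^ (2 * n ^ 2 + 3 * n) := Nat.mul_le_mul_left _ (Nat.pow_le_pow_left (by norm_num) _)
      _ ≤ 3 * 4 ^ (3 ^ n - 2) := Nat.mul_le_mul_left _ (Nat.pow_le_pow_right (by norm_num) (by omega))

/-- `r ≥ 5`, `n ≥ 2`, trivial bound. -/
theorem five_big {q r n : ℕ} (hr : 5 ≤ r) (hn : 2 ≤ n) (hq : r ≤ q) :
    (r ^ (2 * n) + r - 1) * r ^ (2 * n ^ 2 + n) ≤ r * q ^ (r ^ n - 2) := by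
  have h1 : 2 * n ^ 2 + 3 * n + 2 ≤ r ^ n := by
    have h5 : ∀ k : ℕ, 2 * (k + 2) ^ 2 + 3 * (k + 2) + 2 ≤ 5 ^ (k + 2) := by
      intro k
      induction k with
      | zero => norm_num
      | succ k ih =>
        have : 5 ^ (k + 1 + 2) = 5 * 5 ^ (k + 2) := by ring
        rw [this]
        nlinarith
    obtain ⟨k, rfl⟩ := Nat.exists_eq_add_of_le hn
    rw [show 2 + k = k + 2 by omega]
    exact (h5 k).trans (Nat.pow_le_pow_left hr _)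
  have hr1 : 1 ≤ r := by omega
  calc (r ^ (2 * n) + r - 1) * r ^ (2 * n ^ 2 + n) ≤ r ^ (2 * n + 1) * r ^ (2 * n ^ 2 + n) := by
        apply Nat.mul_le_mul_right
        rw [pow_succ]
        have h2 : r ^ 1 ≤ r ^ (2 * n) := Nat.pow_le_pow_right hr1 (by omega)
        rw [pow_one] at h2
        have h3 : r ^ (2 * n) * 2 ≤ r ^ (2 * n) * r := Nat.mul_le_mul_left _ (by omega)
        omega
    _ = r * r ^ (2 * n ^ 2 + 3 * n) := by rw [← pow_add, ← pow_succ']; congr 1; ring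
    _ ≤ r * q ^ (2 * n ^ 2 + 3 * n) := Nat.mul_le_mul_left _ (Nat.pow_le_pow_left hq _)
    _ ≤ r * q ^ (r ^ n - 2) := Nat.mul_le_mul_left _ (Nat.pow_le_pow_right (by omega) (by omega))

/-- `r ≥ 5`, `n = 1`. -/
theorem five_one {q r : ℕ} (hr : 5 ≤ r) (h6 : r ≠ 6) (hq : r + 1 ≤ q) (h5 : r = 5 → 11 ≤ q) :
    (r ^ (2 * 1) + r - 1) * (r ^ (1 ^ 2) * ∏ i ∈ Finset.range 1, (r ^ (2 * (i + 1)) - 1)) ≤
      r * q ^ (r ^ 1 - 2) := by
  rw [Finset.prod_range_one, one_pow, pow_one, zero_add, mul_one]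
  rcases Nat.eq_or_lt_of_le hr with h | h
  · subst h
    have := h5 rfl
    calc _ ≤ 5 * 11 ^ (5 - 2) := by norm_num
      _ ≤ _ := Nat.mul_le_mul_left _ (Nat.pow_le_pow_left this _)
  · have h7 : 7 ≤ r := by omega
    have h1 : (r ^ 2 + r - 1) * (r ^ 2 - 1) ≤ q ^ (r - 2) := by
      calc (r ^ 2 + r - 1) * (r ^ 2 - 1) ≤ (r + 1) ^ 2 * (r + 1) ^ 2 := by
            apply Nat.mul_le_mul
            · have : (r + 1) ^ 2 = r ^ 2 + 2 * r + 1 := by ring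
              omega
            · have : (r + 1) ^ 2 = r ^ 2 + 2 * r + 1 := by ring
              omega
        _ = (r + 1) ^ 4 := by ring
        _ ≤ (r + 1) ^ (r - 2) := Nat.pow_le_pow_right (by omega) (by omega)
        _ ≤ q ^ (r - 2) := Nat.pow_le_pow_left hq _
    calc (r ^ 2 + r - 1) * (r * (r ^ 2 - 1)) = r * ((r ^ 2 + r - 1) * (r ^ 2 - 1)) := by ring
      _ ≤ _ := Nat.mul_le_mul_left _ h1

/-- `p = 3`, `e ≥ 2`, `r = 2`, `n = 2`. -/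
theorem three_two {e : ℕ} (he : 2 ≤ e) : NumC 3 e 2 2 15 := by
  unfold NumC
  have h : ∀ k : ℕ, 2 * (k + 2) * (3 ^ (k + 2) * 17 * 15) ≤ 2 * (3 ^ (k + 2)) ^ 4 := by
    intro k
    induction k with
    | zero => norm_num
    | succ k ih =>
      have e1 : 3 ^ (k + 1 + 2) = 3 * 3 ^ (k + 2) := by ring
      rw [e1]
      generalize 3 ^ (k + 2) = x at *
      nlinarith
  obtain ⟨k, rfl⟩ := Nat.exists_eq_add_of_le he
  rw [show 2 + k = k + 2 by omega]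
  refine le_trans ?_ (h k)
  norm_num

end Cfsg.Agent.H969.KGL
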